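import Groth.Prelude.Def_CoactBr
import Groth.Prelude.Def_Mor2
import Groth.Agent.ComodLib.KostantRosenlicht
import Groth.Agent.DescLib.QAffineDesc
import Mathlib.AlgebraicGeometry.QuasiAffine

/-!
# Actions on quasi-affine schemes and orbits of unipotent groups

An action of an affine group on a quasi-affine scheme over a field extends to the affine hull; in
particular orbits of rational points under unipotent groups are closed.
-/

universe u

open CategoryTheory CategoryTheory.Limits MonoidalCategory CartesianMonoidalCategory MonObj AlgebraicGeometry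
open CoactBr
open scoped TensorProduct

set_option linter.style.haveILetI false
set_option maxHeartbeats 1000000

attribute [local instance] CategoryTheory.Hom.monoid CategoryTheory.Hom.group

namespace Groth.Agent.Deform.UnipOrbit

variable {k : Type u} [Field k]

section Pt

variable {K B : Type u} [CommRing K] [Algebra k K] [CommRing B] [Algebra k B]

theorem exists_pt (f : sp k K ⟶ sp k B) : ∃ φ : B →ₐ[k] K, pt φ = f := by
  obtain ⟨ψ, hψ⟩ := Spec.map_surjective f.left
  have hw : Spec.map ψ ≫ Spec.map (CommRingCat.ofHom (algebraMap k B)) =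
      Spec.map (CommRingCat.ofHom (algebraMap k K)) := by
    rw [hψ]
    exact Over.w f
  rw [← Spec.map_comp] at hw
  have hc := Spec.map_injective hw
  refine ⟨{ ψ.hom with commutes' := fun c => RingHom.congr_fun (congrArg CommRingCat.Hom.hom hc) c }, ?_⟩
  exact Over.OverMorphism.ext (by rw [pt_left]; exact hψ)

end Pt

section Affine

variable {A R : Type u} [CommRing A] [HopfAlgebra k A] [CommRing R] [Algebra k R]

/-- A right action of `Spec A` on `Spec R` comes from a comodule algebra structure. -/
theorem exists_coact (r : sp k R ⊗ sp k A ⟶ sp k R)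
    (h1 : ∀ {T : Over (Spec (CommRingCat.of k))} (x : T ⟶ sp k R), lift x (1 : T ⟶ sp k A) ≫ r = x)
    (h2 : ∀ {T : Over (Spec (CommRingCat.of k))} (x : T ⟶ sp k R) (g h : T ⟶ sp k A),
      lift (lift x g ≫ r) h ≫ r = lift x (g * h) ≫ r) :
    ∃ (_ : HopfRep.Comod k A R) (_ : GLin.IsCoactAlg k A R), ∀ (K : Type u) [CommRing K] [Algebra k K]
      (y : R →ₐ[k] K) (g : A →ₐ[k] K),
      lift (pt y) (pt g) ≫ r =
        pt ((Algebra.TensorProduct.lift y g fun _ _ => .all _ _).comp (GLin.coactAlgHom k A R)) := by
  let inl : R →ₐ[k] R ⊗[k] A := Algebra.TensorProduct.includeLeft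
  let inr : A →ₐ[k] R ⊗[k] A := Algebra.TensorProduct.includeRight
  obtain ⟨ρ, hρ⟩ := exists_pt (lift (pt inl) (pt inr) ≫ r)
  have nat : ∀ (K : Type u) [CommRing K] [Algebra k K] (y : R →ₐ[k] K) (g : A →ₐ[k] K),
      lift (pt y) (pt g) ≫ r = pt ((Algebra.TensorProduct.lift y g fun _ _ => .all _ _).comp ρ) := by
    intro K _ _ y g
    rw [pt_comp, hρ, comp_lift_assoc, ← pt_comp, ← pt_comp]
    congr 3
    · exact AlgHom.ext fun a => by simp [inl]
    · exact AlgHom.ext fun a => by simp [inr]
  have hcu : ∀ f, (Algebra.TensorProduct.lift (AlgHom.id k R)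
      ((Algebra.ofId k R).comp (Bialgebra.counitAlgHom k A)) fun _ _ => .all _ _) (ρ f) = f := by
    intro f
    have e := nat R (AlgHom.id k R) ((Algebra.ofId k R).comp (Bialgebra.counitAlgHom k A))
    rw [← one_eq_pt, h1] at e
    exact (AlgHom.congr_fun (pt_injective e) f).symm
  let K₃ := R ⊗[k] (A ⊗[k] A)
  let y₀ : R →ₐ[k] K₃ := Algebra.TensorProduct.includeLeft
  let g₀ : A →ₐ[k] K₃ :=
    (Algebra.TensorProduct.includeRight : (A ⊗[k] A) →ₐ[k] K₃).comp Algebra.TensorProduct.includeLeft
  let h₀ : A →ₐ[k] K₃ :=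
    (Algebra.TensorProduct.includeRight : (A ⊗[k] A) →ₐ[k] K₃).comp Algebra.TensorProduct.includeRight
  have hca : ∀ f, (Algebra.TensorProduct.lift ((Algebra.TensorProduct.lift y₀ g₀ fun _ _ => .all _ _).comp ρ) h₀
        fun _ _ => .all _ _) (ρ f) =
      (Algebra.TensorProduct.lift y₀ ((Algebra.TensorProduct.lift g₀ h₀ fun _ _ => .all _ _).comp
        (Bialgebra.comulAlgHom k A)) fun _ _ => .all _ _) (ρ f) := by
    intro f
    have e := h2 (pt y₀) (pt g₀) (pt h₀)
    rw [nat, nat, pt_mul_pt, nat] at e
    exact AlgHom.congr_fun (pt_injective e) f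
  let C : HopfRep.Comod k A R :=
    { coact := ρ.toLinearMap
      coassoc := by
        refine LinearMap.ext fun f => ?_
        have e1 : ∀ z : R ⊗[k] A,
            (TensorProduct.assoc k R A A) (ρ.toLinearMap.rTensor A z) =
              (Algebra.TensorProduct.lift ((Algebra.TensorProduct.lift y₀ g₀ fun _ _ => .all _ _).comp ρ) h₀
                fun _ _ => .all _ _) z := by
          intro z
          induction z using TensorProduct.induction_on with
          | zero => simp
          | add p q hp hq => simp only [map_add, hp, hq]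
          | tmul a b =>
            rw [LinearMap.rTensor_tmul, AlgHom.toLinearMap_apply, Algebra.TensorProduct.lift_tmul,
              AlgHom.comp_apply]
            induction ρ a using TensorProduct.induction_on with
            | zero => simp
            | add p q hp hq => simp only [map_add, TensorProduct.add_tmul, add_mul, hp, hq]
            | tmul p q => simp [y₀, g₀, h₀, K₃]
        have e2 : ∀ z : R ⊗[k] A, (CoalgebraStruct.comul (R := k) (A := A)).lTensor R z =
              (Algebra.TensorProduct.lift y₀ ((Algebra.TensorProduct.lift g₀ h₀ fun _ _ => .all _ _).comp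
                (Bialgebra.comulAlgHom k A)) fun _ _ => .all _ _) z := by
          intro z
          induction z using TensorProduct.induction_on with
          | zero => simp
          | add p q hp hq => simp only [map_add, hp, hq]
          | tmul a b =>
            rw [LinearMap.lTensor_tmul, Algebra.TensorProduct.lift_tmul, AlgHom.comp_apply,
              Bialgebra.comulAlgHom_apply]
            induction (CoalgebraStruct.comul (R := k) b) using TensorProduct.induction_on with
            | zero => simp
            | add p q hp hq => simp only [map_add, TensorProduct.tmul_add, mul_add, hp, hq]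
            | tmul p q => simp [y₀, g₀, h₀, K₃]
        exact (e1 (ρ f)).trans ((hca f).trans (e2 (ρ f)).symm)
      counit_comp := by
        refine LinearMap.ext fun f => ?_
        have e1 : ∀ z : R ⊗[k] A, (CoalgebraStruct.counit (R := k) (A := A)).lTensor R z =
            ((Algebra.TensorProduct.lift (AlgHom.id k R) ((Algebra.ofId k R).comp (Bialgebra.counitAlgHom k A))
              fun _ _ => .all _ _) z) ⊗ₜ[k] (1 : k) := by
          intro z
          induction z using TensorProduct.induction_on with
          | zero => simp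
          | add p q hp hq => simp only [map_add, TensorProduct.add_tmul, hp, hq]
          | tmul a b =>
            rw [LinearMap.lTensor_tmul, Algebra.TensorProduct.lift_tmul, AlgHom.comp_apply, AlgHom.id_apply,
              Algebra.ofId_apply, Bialgebra.counitAlgHom_apply, mul_comm, ← Algebra.smul_def,
              TensorProduct.smul_tmul]
            simp
        exact (e1 (ρ f)).trans (by rw [hcu]; rfl) }
  letI := C
  haveI hC : GLin.IsCoactAlg k A R := ⟨map_one ρ, map_mul ρ⟩
  refine ⟨C, hC, ?_⟩
  intro K _ _ y g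
  rw [nat]
  rfl

end Affine

/-- An action on a quasi-affine scheme extends to the affine hull; orbits of rational points under
unipotent groups are closed. -/
theorem isClosed_range_orbitMap (A : Type u) [CommRing A] [HopfAlgebra k A] (hU : HopfRep.IsUnipotent k A)
    (X : Over (Spec (CommRingCat.of k))) [X.left.IsQuasiAffine]
    (a : AlgGrp.Action (sp k A) X) (x : 𝟙_ (Over (Spec (CommRingCat.of k))) ⟶ X) :
    IsClosed (Set.range (a.orbitMap x).left.base) := by
  let R : Type u := Γ(X.left, ⊤)
  letI : Algebra k R := ((Scheme.ΓSpecIso (CommRingCat.of k)).inv ≫ X.hom.appTop).hom.toAlgebra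
  let j : X ⟶ sp k R := Over.homMk X.left.toSpecΓ (by
    show X.left.toSpecΓ ≫ Spec.map ((Scheme.ΓSpecIso (CommRingCat.of k)).inv ≫ X.hom.appTop) = X.hom
    rw [Spec.map_comp, ← Scheme.toSpecΓ_naturality_assoc, toSpecΓ_SpecMap_ΓSpecIso_inv, Category.comp_id])
  haveI : IsIso j.left.appTop := by
    show IsIso X.left.toSpecΓ.appTop
    rw [Scheme.toSpecΓ_appTop]
    infer_instance
  haveI : IsAffine (sp k A).left := inferInstanceAs (IsAffine (Spec (CommRingCat.of A)))
  haveI : IsAffine (sp k R).left := inferInstanceAs (IsAffine (Spec (CommRingCat.of R)))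
  have hiso : ∀ (P : Over (Spec (CommRingCat.of k))) [IsAffine P.left] [Flat P.hom],
      IsIso (j ▷ P).left.appTop := by
    intro P _ _
    exact DescLib.isIso_appTop_baseChange P.hom j.left X.hom (sp k R).hom (Over.w j)
  haveI : IsAffine (sp k A ⊗ sp k A).left := by
    show IsAffine (pullback (sp k A).hom (sp k A).hom)
    infer_instance
  haveI hfl : Flat (sp k A).hom :=
    (HasRingHomProperty.Spec_iff (P := @Flat)).2 (RingHom.flat_algebraMap_iff.2 inferInstance)
  haveI : Flat (sp k A ⊗ sp k A).hom := by
    show Flat (pullback.fst (sp k A).hom (sp k A).hom ≫ (sp k A).hom)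
    infer_instance
  haveI : Flat (𝟙_ (Over (Spec (CommRingCat.of k)))).hom := by
    show Flat (𝟙 _)
    infer_instance
  haveI : IsAffine (𝟙_ (Over (Spec (CommRingCat.of k)))).left :=
    inferInstanceAs (IsAffine (Spec (CommRingCat.of k)))
  let r : X ⊗ sp k A ⟶ X := lift (snd X (sp k A))⁻¹ (fst X (sp k A)) ≫ a.act
  have hr : ∀ {T : Over (Spec (CommRingCat.of k))} (y : T ⟶ X) (g : T ⟶ sp k A),
      lift y g ≫ r = lift g⁻¹ y ≫ a.act := by
    intro T y g
    simp only [r, comp_lift_assoc, lift_fst]
    rw [GrpObj.comp_inv, lift_snd]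
  obtain ⟨e, he⟩ : ∃ e : (sp k R ⊗ sp k A).left ⟶ (sp k R).left, (j ▷ sp k A).left ≫ e = (r ≫ j).left := by
    haveI := hiso (sp k A)
    exact DescLib.exists_extend_of_isIso_appTop _ _
  let r' : sp k R ⊗ sp k A ⟶ sp k R := Over.homMk e (by
    haveI := hiso (sp k A)
    refine DescLib.hom_ext_of_isIso_appTop (j ▷ sp k A).left ?_
    rw [reassoc_of% he, Over.w, Over.w])
  have hj : ∀ {T : Over (Spec (CommRingCat.of k))} (y : T ⟶ X) (g : T ⟶ sp k A),
      lift (y ≫ j) g ≫ r' = lift y g ≫ r ≫ j := by
    intro T y g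
    rw [← show (j ▷ sp k A) ≫ r' = r ≫ j from Over.OverMorphism.ext he, lift_whiskerRight_assoc]
  have h1 : ∀ {T : Over (Spec (CommRingCat.of k))} (y : T ⟶ sp k R),
      lift y (1 : T ⟶ sp k A) ≫ r' = y := by
    have h0 : lift (fst (sp k R) (𝟙_ _)) (1 : _ ⟶ sp k A) ≫ r' = fst (sp k R) (𝟙_ _) := by
      haveI := hiso (𝟙_ (Over (Spec (CommRingCat.of k))))
      refine Over.OverMorphism.ext (DescLib.hom_ext_of_isIso_appTop (j ▷ 𝟙_ _).left ?_)
      refine congrArg CommaMorphism.left (?_ : (j ▷ 𝟙_ _) ≫ lift (fst (sp k R) (𝟙_ _)) (1 : _ ⟶ sp k A) ≫ r' =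
        (j ▷ 𝟙_ _) ≫ fst (sp k R) (𝟙_ _))
      rw [comp_lift_assoc, whiskerRight_fst, MonObj.comp_one, hj, ← Category.assoc, hr, inv_one, Hom.one_def,
        ← lift_whiskerRight, Category.assoc, Category.assoc, reassoc_of% a.one_act, lift_leftUnitor_hom_assoc]
    intro T y
    have := congrArg (fun φ => lift y (toUnit T) ≫ φ) h0
    simpa only [comp_lift_assoc, lift_fst, MonObj.comp_one] using this
  have h2 : ∀ {T : Over (Spec (CommRingCat.of k))} (y : T ⟶ sp k R) (g h : T ⟶ sp k A),
      lift (lift y g ≫ r') h ≫ r' = lift y (g * h) ≫ r' := by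
    let p := fst (sp k R) (sp k A ⊗ sp k A)
    let g₀ := snd (sp k R) (sp k A ⊗ sp k A) ≫ fst _ _
    let h₀ := snd (sp k R) (sp k A ⊗ sp k A) ≫ snd _ _
    have h0 : lift (lift p g₀ ≫ r') h₀ ≫ r' = lift p (g₀ * h₀) ≫ r' := by
      haveI := hiso (sp k A ⊗ sp k A)
      refine Over.OverMorphism.ext (DescLib.hom_ext_of_isIso_appTop (j ▷ (sp k A ⊗ sp k A)).left ?_)
      refine congrArg CommaMorphism.left (?_ : (j ▷ (sp k A ⊗ sp k A)) ≫ lift (lift p g₀ ≫ r') h₀ ≫ r' =
        (j ▷ (sp k A ⊗ sp k A)) ≫ lift p (g₀ * h₀) ≫ r')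
      simp only [comp_lift_assoc, comp_lift, p, g₀, h₀, whiskerRight_fst, MonObj.comp_mul,
        whiskerRight_snd_assoc]
      rw [hj, hj, ← Category.assoc (lift _ _) r j, hj, ← Category.assoc (lift _ _) r j,
        ← Category.assoc (lift _ _) r j]
      congr 1
      rw [hr, hr, hr, mul_inv_rev, Hom.mul_def, ← lift_whiskerRight, Category.assoc, a.mul_act,
        lift_lift_associator_hom_assoc, lift_whiskerLeft_assoc]
    intro T y g h
    have := congrArg (fun φ => lift y (lift g h) ≫ φ) h0
    simpa only [p, g₀, h₀, comp_lift_assoc, comp_lift, lift_fst, lift_snd, lift_snd_assoc, MonObj.comp_mul] using this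
  obtain ⟨C, hC, hpt⟩ := exists_coact r' h1 h2
  obtain ⟨χ, hχ⟩ := exists_pt (toUnit (sp k k) ≫ x ≫ j)
  have key : pt (GLin.orbitHom k A χ) = ι[sp k A] ≫ a.orbitMap x ≫ j := by
    have e : Algebra.TensorProduct.lift ((Algebra.ofId k A).comp χ) (AlgHom.id k A) (fun _ _ => .all _ _) =
        (Algebra.TensorProduct.lid k A).toAlgHom.comp (Algebra.TensorProduct.map χ (AlgHom.id k A)) := by
      apply Algebra.TensorProduct.ext'
      intro b c
      simp [Algebra.smul_def]
    have h3 := hpt A ((Algebra.ofId k A).comp χ) (AlgHom.id k A)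
    rw [e, pt_comp (ψ := Algebra.ofId k A), hχ, ← Category.assoc (pt _), toUnit_unique (pt _ ≫ toUnit _) (toUnit _),
      ← Category.assoc (toUnit _), hj, ← Category.assoc (lift _ _) r j, hr, pt_id] at h3
    refine Eq.trans ?_ (h3.symm.trans ?_)
    · rfl
    · rw [AlgGrp.Action.orbitMap, ← Category.assoc, ← Category.assoc (ι[sp k A]) (lift _ _), comp_lift]
      congr 3
      rw [← Category.assoc, toUnit_unique (ι[sp k A] ≫ toUnit _) (toUnit _)]
  have hcl : IsClosed (Set.range (Spec.map (CommRingCat.ofHom (GLin.orbitHom k A χ).toRingHom)).base) :=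
    ComodLib.isClosedOrbit_of_isUnipotent hU χ
  have hsurj : Function.Surjective (ι[sp k A].left).base := by
    intro z
    refine ⟨(ι[sp k A].left).base z, ?_⟩
    have h4 : ι[sp k A] ≫ ι[sp k A] = 𝟙 (sp k A) := by
      have := inv_inv (𝟙 (sp k A))
      simpa only [Hom.inv_def, Category.id_comp] using this
    exact congrArg (fun φ : sp k A ⟶ sp k A => φ.left.base z) h4
  rw [← pt_left, key] at hcl
  have hr2 : Set.range (ι[sp k A] ≫ a.orbitMap x ≫ j).left.base =
      j.left.base '' Set.range (a.orbitMap x).left.base := by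
    rw [← Set.range_comp]
    show Set.range ((j.left.base ∘ (a.orbitMap x).left.base) ∘ (ι[sp k A].left).base) = _
    exact hsurj.range_comp _
  replace hcl : IsClosed (j.left.base '' Set.range (a.orbitMap x).left.base) := by
    rw [← hr2]; exact hcl
  have hinj : Function.Injective j.left.base := by
    show Function.Injective X.left.toSpecΓ.base
    exact X.left.toSpecΓ.isOpenEmbedding.injective
  simpa only [Set.preimage_image_eq _ hinj] using hcl.preimage j.left.base.hom.continuous

end Groth.Agent.Deform.UnipOrbit
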